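import Mathlib

/-!
# Permutations of odd prime order and their cycles (S4526, row of the alternating groups)

`E z` : the even permutations commuting with `z` and preserving the cycles of `z`; a `p`-group if `z ^ p = 1`.
A permutation which centralizes `E z` acts on every cycle of `z` as a power of `z`.
-/

set_option autoImplicit false
set_option linter.unusedSectionVars false

namespace Cfsg.Agent.H486.SCAlt

open Equiv

variable {α : Type*} [Fintype α] [DecidableEq α]

omit [Fintype α] [DecidableEq α] in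
theorem pow_fix {c z : Perm α} (hc : Commute c z) {x : α} (hx : z.SameCycle x (c x)) {p : ℕ} (hz : z ^ p = 1) :
    (c ^ p) x = x := by
  obtain ⟨i, hi⟩ := hx
  have h1 : ∀ k : ℕ, (c ^ k) x = (z ^ (i * (k : ℤ))) x := by
    intro k
    induction k with
    | zero => simp
    | succ k ih =>
      have e1 : (c ^ (k + 1)) x = (c ^ k) (c x) := by rw [pow_succ, Perm.mul_apply]
      have e2 : (c ^ k) ((z ^ i) x) = (z ^ i) ((c ^ k) x) := by
        have h2 : Commute (c ^ k) (z ^ i) := (hc.pow_left k).zpow_right i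
        have h3 := congrArg (fun f : Perm α => f x) h2.eq
        simpa only [Perm.mul_apply] using h3
      rw [e1, ← hi, e2, ih, ← Perm.mul_apply, ← zpow_add]
      congr 2
      push_cast
      ring
  rw [h1 p, mul_comm, zpow_mul, zpow_natCast, hz, one_zpow, Perm.one_apply]

/-- the even permutations commuting with `z` and preserving the cycles of `z` -/
def E (z : Perm α) : Subgroup (alternatingGroup α) where
  carrier := {g | Commute (g : Perm α) z ∧ ∀ x, z.SameCycle x ((g : Perm α) x)}
  mul_mem' {a b} ha hb := by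
    refine ⟨?_, fun x => ?_⟩
    · change Commute ((a : Perm α) * (b : Perm α)) z
      exact ha.1.mul_left hb.1
    · change z.SameCycle x ((a : Perm α) ((b : Perm α) x))
      exact (hb.2 x).trans (ha.2 _)
  one_mem' := ⟨Commute.one_left z, fun x => Perm.SameCycle.refl z x⟩
  inv_mem' {a} ha := by
    refine ⟨?_, fun x => ?_⟩
    · change Commute (a : Perm α)⁻¹ z
      exact ha.1.inv_left
    · change z.SameCycle x ((a : Perm α)⁻¹ x)
      have h1 := ha.2 ((a : Perm α)⁻¹ x)
      rw [show (a : Perm α) ((a : Perm α)⁻¹ x) = x from (a : Perm α).apply_symm_apply x] at h1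
      exact h1.symm

theorem mem_E {z : Perm α} {g : alternatingGroup α} :
    g ∈ E z ↔ Commute (g : Perm α) z ∧ ∀ x, z.SameCycle x ((g : Perm α) x) := Iff.rfl

theorem E_pow {z : Perm α} {p : ℕ} (hz : z ^ p = 1) {g : alternatingGroup α} (hg : g ∈ E z) : g ^ p = 1 := by
  apply Subtype.ext
  ext x
  change (((g ^ p : alternatingGroup α) : Perm α)) x = x
  rw [Subgroup.coe_pow]
  exact pow_fix hg.1 (hg.2 x) hz

theorem isPGroup_E {z : Perm α} {p : ℕ} (hz : z ^ p = 1) : IsPGroup p (E z) := by
  intro g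
  refine ⟨1, ?_⟩
  rw [pow_one]
  exact Subtype.ext (E_pow hz g.2)

theorem E_fix {z : Perm α} {g : alternatingGroup α} (hg : g ∈ E z) {x : α} (hx : z x = x) : (g : Perm α) x = x := by
  obtain ⟨i, hi⟩ := hg.2 x
  rw [← hi]
  exact Perm.zpow_apply_eq_self_of_apply_eq_self hx i

theorem sign_of_odd {g : Perm α} {m : ℕ} (hm : Odd m) (hg : g ^ m = 1) : Perm.sign g = 1 := by
  have h1 : Perm.sign g ^ m = 1 := by rw [← map_pow, hg, map_one]
  rcases Int.units_eq_one_or (Perm.sign g) with h | h
  · exact h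
  · exfalso
    rw [h, hm.neg_one_pow] at h1
    exact absurd h1 (by decide)

theorem mem_E_self {z : Perm α} {p : ℕ} (hp : Odd p) (hz : z ^ p = 1) :
    (⟨z, Perm.mem_alternatingGroup.2 (sign_of_odd hp hz)⟩ : alternatingGroup α) ∈ E z :=
  ⟨Commute.refl z, fun x => ⟨1, by simp⟩⟩

omit [Fintype α] [DecidableEq α] in
theorem commute_cycleOf (z : Perm α) [DecidableRel z.SameCycle] (x : α) : Commute (z.cycleOf x) z := by
  ext y
  rw [Perm.mul_apply, Perm.mul_apply, Perm.cycleOf_apply, Perm.cycleOf_apply]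
  by_cases h : z.SameCycle x y
  · rw [if_pos h, if_pos (Perm.sameCycle_apply_right.2 h)]
  · rw [if_neg h, if_neg (fun h1 => h (Perm.sameCycle_apply_right.1 h1))]

omit [Fintype α] [DecidableEq α] in
theorem sameCycle_cycleOf (z : Perm α) [DecidableRel z.SameCycle] (x y : α) : z.SameCycle y (z.cycleOf x y) := by
  rw [Perm.cycleOf_apply]
  split_ifs with h
  · exact Perm.sameCycle_apply_right.2 (Perm.SameCycle.refl z y)
  · exact Perm.SameCycle.refl z y

omit [Fintype α] [DecidableEq α] in
theorem cycleOf_pow {z : Perm α} [DecidableRel z.SameCycle] {p : ℕ} (hz : z ^ p = 1) (x : α) :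
    (z.cycleOf x) ^ p = 1 := by
  ext y
  rw [Perm.one_apply]
  exact pow_fix (commute_cycleOf z x) (sameCycle_cycleOf z x y) hz

/-- a permutation centralizing `E z` acts on the cycles of `z` as a power of `z` -/
theorem pow_apply_of_centralizes {z : Perm α} {p : ℕ} (hp : Odd p) (hz : z ^ p = 1) {c : Perm α}
    (hc : ∀ g ∈ E z, Commute c (g : Perm α)) {x : α} (hx : z x ≠ x) : (c ^ p) x = x := by
  classical
  refine pow_fix (hc _ (mem_E_self hp hz)) ?_ hz
  by_contra hcon
  have h1 : (⟨z.cycleOf x, Perm.mem_alternatingGroup.2 (sign_of_odd hp (cycleOf_pow hz x))⟩ : alternatingGroup α) ∈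
      E z := ⟨commute_cycleOf z x, sameCycle_cycleOf z x⟩
  have h2 := congrArg (fun f : Perm α => f x) (hc _ h1).eq
  simp only [Perm.mul_apply] at h2
  rw [Perm.cycleOf_apply_self, Perm.cycleOf_apply_of_not_sameCycle hcon] at h2
  exact hx (c.injective h2)

theorem commute_self {z : Perm α} {p : ℕ} (hp : Odd p) (hz : z ^ p = 1) {c : Perm α}
    (hc : ∀ g ∈ E z, Commute c (g : Perm α)) : Commute c z := hc _ (mem_E_self hp hz)

/-! ### the part of a permutation on an invariant set -/

/-- the permutation equal to `g` on `K` and trivial outside -/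
def cut (K : Finset α) (g : Perm α) (h : ∀ x, g x ∈ K ↔ x ∈ K) : Perm α :=
  Perm.ofSubtype (g.subtypePerm (p := fun x => x ∈ K) h)

omit [Fintype α] in
theorem cut_mem {K : Finset α} {g : Perm α} (h : ∀ x, g x ∈ K ↔ x ∈ K) {x : α} (hx : x ∈ K) : cut K g h x = g x := by
  unfold cut
  rw [Perm.ofSubtype_apply_of_mem _ hx]
  rfl

omit [Fintype α] in
theorem cut_notMem {K : Finset α} {g : Perm α} (h : ∀ x, g x ∈ K ↔ x ∈ K) {x : α} (hx : x ∉ K) : cut K g h x = x := by
  unfold cut
  exact Perm.ofSubtype_apply_of_not_mem _ hx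

theorem cut_pow {K : Finset α} {g : Perm α} (h : ∀ x, g x ∈ K ↔ x ∈ K) {m : ℕ} (hg : g ^ m = 1) :
    cut K g h ^ m = 1 := by
  unfold cut
  rw [← map_pow, Perm.subtypePerm_pow]
  have h1 : (g ^ m).subtypePerm (p := fun x => x ∈ K) (fun x => by rw [hg, Perm.one_apply]) = 1 := by
    refine Equiv.ext fun x => Subtype.ext ?_
    change (g ^ m) x = x
    rw [hg, Perm.one_apply]
  rw [h1, map_one]

theorem commute_cut {K : Finset α} {g : Perm α} (h : ∀ x, g x ∈ K ↔ x ∈ K) : Commute g (cut K g h) := by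
  ext x
  rw [Perm.mul_apply, Perm.mul_apply]
  by_cases hx : x ∈ K
  · rw [cut_mem h hx, cut_mem h ((h x).2 hx)]
  · rw [cut_notMem h hx, cut_notMem h (fun h1 => hx ((h x).1 h1))]

/-- what is left fixes `K` pointwise -/
theorem mul_inv_cut {K : Finset α} {g : Perm α} (h : ∀ x, g x ∈ K ↔ x ∈ K) {x : α} (hx : x ∈ K) :
    (g * (cut K g h)⁻¹) x = x := by
  have h1 := (commute_cut h).inv_right.eq
  rw [h1, Perm.mul_apply, Perm.inv_eq_iff_eq, cut_mem h hx]

/-- outside `K` nothing has changed -/
theorem mul_inv_cut' {K : Finset α} {g : Perm α} (h : ∀ x, g x ∈ K ↔ x ∈ K) {x : α} (hx : x ∉ K) :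
    (g * (cut K g h)⁻¹) x = g x := by
  have h1 : (cut K g h)⁻¹ x = x := by rw [Perm.inv_eq_iff_eq, cut_notMem h hx]
  rw [Perm.mul_apply, h1]

end Cfsg.Agent.H486.SCAlt
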