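import Cfsg.Agent.H486.SC.AltE
import Cfsg.Agent.H661.SC.Base
import Cfsg.Agent.H600.AltIM

/-!
# S4526: blocks of non-maximal defect in alternating groups, `p` odd

`z` : a permutation with `z ^ p = 1`, `K` its set of fixed points. If `Alt(K)` has a character of `p`-defect zero
(and `p ∣ |Alt(K)|`) then `Alt` has a block whose defect group is a Sylow `p`-subgroup of the pointwise stabilizer
of `K` (`imc_of_zero`). For `p ≥ 5` and `|K| = (n mod p) + p` such a character exists (`imc_large`).
-/

set_option autoImplicit false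
set_option linter.unusedSectionVars false

namespace Cfsg.Agent.H486.SCAlt

open Equiv Cfsg Cfsg.Agent.H625.SylConst Cfsg.Agent.Characters.Core

universe u

section Sylow

variable {G : Type u} [Group G] [Finite G] {p : ℕ} [hp : Fact p.Prime]

/-- `p`-elements normalizing a Sylow subgroup lie in it -/
theorem mem_sylow (P : Sylow p G) {g : G} (hk : ∃ k : ℕ, g ^ p ^ k = 1)
    (hn : g ∈ Subgroup.normalizer ((P : Subgroup G) : Set G)) : g ∈ (P : Subgroup G) := by
  have hZ : IsPGroup p (Subgroup.zpowers g) := by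
    rintro ⟨y, i, rfl⟩
    obtain ⟨k, hk⟩ := hk
    refine ⟨k, Subtype.ext ?_⟩
    change (g ^ i) ^ p ^ k = 1
    rw [← zpow_natCast, ← zpow_mul, mul_comm, zpow_mul, zpow_natCast, hk, one_zpow]
  have h1 : IsPGroup p (Subgroup.zpowers g ⊔ (P : Subgroup G) : Subgroup G) :=
    hZ.to_sup_of_normal_right' P.2 ((Subgroup.zpowers_le).2 hn)
  have h2 := P.is_maximal' h1 le_sup_right
  rw [← h2]
  exact (le_sup_left : Subgroup.zpowers g ≤ _) (Subgroup.mem_zpowers g)

theorem mem_map_sylow (T : Subgroup G) (P : Sylow p T) {g : G} (hg : g ∈ T) (hk : ∃ k : ℕ, g ^ p ^ k = 1)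
    (hn : g ∈ Subgroup.normalizer (((P : Subgroup T).map T.subtype : Subgroup G) : Set G)) :
    g ∈ (P : Subgroup T).map T.subtype := by
  have hm : ∀ x : T, (x : G) ∈ (P : Subgroup T).map T.subtype ↔ x ∈ (P : Subgroup T) := by
    intro x
    constructor
    · rintro ⟨y, hy, hyx⟩
      have h1 : y = x := Subtype.ext hyx
      rwa [← h1]
    · intro hx
      exact ⟨x, hx, rfl⟩
  have h1 : (⟨g, hg⟩ : T) ∈ (P : Subgroup T) := by
    apply mem_sylow P
    · obtain ⟨k, hk⟩ := hk
      exact ⟨k, Subtype.ext hk⟩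
    · rw [Subgroup.mem_normalizer_iff] at hn ⊢
      intro x
      have h2 := hn (x : G)
      rw [hm x] at h2
      have h3 := hm (⟨g, hg⟩ * x * (⟨g, hg⟩ : T)⁻¹)
      rw [h2, ← h3]
      rfl
  exact (hm ⟨g, hg⟩).2 h1

end Sylow

variable {α : Type u} [Fintype α] [DecidableEq α]

/-- even permutations fixing the set `K` pointwise -/
def Fx (K : Finset α) : Subgroup (alternatingGroup α) where
  carrier := {g | ∀ x ∈ K, (g : Perm α) x = x}
  mul_mem' {a b} ha hb x hx := by
    change (a : Perm α) ((b : Perm α) x) = x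
    rw [hb x hx, ha x hx]
  one_mem' x _ := rfl
  inv_mem' {a} ha x hx := by
    change (a : Perm α)⁻¹ x = x
    rw [Perm.inv_eq_iff_eq]
    exact (ha x hx).symm

theorem mem_Fx {K : Finset α} {g : alternatingGroup α} : g ∈ Fx K ↔ ∀ x ∈ K, (g : Perm α) x = x := Iff.rfl

theorem commute_of_Fx {K : Finset α} {g : alternatingGroup α} (hg : g ∈ Fx K) {c : Perm α}
    (hc : ∀ x ∉ K, c x = x) : Commute c (g : Perm α) := by
  have h1 : Perm.Disjoint c (g : Perm α) := by
    intro x
    by_cases hx : x ∈ K
    · exact Or.inr (hg x hx)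
    · exact Or.inl (hc x hx)
  exact h1.commute

/-- elements normalizing a subgroup whose fixed points are `K` -/
theorem inv_of_normalizer {K : Finset α} {D : Subgroup (alternatingGroup α)}
    (hD : ∀ x, x ∈ K ↔ ∀ d ∈ D, (d : Perm α) x = x) {g : alternatingGroup α}
    (hg : g ∈ Subgroup.normalizer (D : Set (alternatingGroup α))) (x : α) : (g : Perm α) x ∈ K ↔ x ∈ K := by
  have key : ∀ h : alternatingGroup α, h ∈ Subgroup.normalizer (D : Set (alternatingGroup α)) → ∀ x ∈ K,
      (h : Perm α) x ∈ K := by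
    intro h hh x hx
    rw [hD] at hx ⊢
    intro d hd
    have h1 : h⁻¹ * d * h ∈ D := by
      have h2 := (Subgroup.mem_normalizer_iff.1 (inv_mem hh)) d
      rw [inv_inv] at h2
      exact h2.1 hd
    have h3 := hx _ h1
    change (h : Perm α)⁻¹ ((d : Perm α) ((h : Perm α) x)) = x at h3
    rwa [Perm.inv_eq_iff_eq] at h3
  constructor
  · intro h
    have h1 := key g⁻¹ (inv_mem hg) _ h
    change (g : Perm α)⁻¹ ((g : Perm α) x) ∈ K at h1
    rwa [show (g : Perm α)⁻¹ ((g : Perm α) x) = x from (g : Perm α).symm_apply_apply x] at h1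
  · exact key g hg x

theorem imc_of_zero {p : ℕ} [hp : Fact p.Prime] (hp2 : p ≠ 2) {z : Perm α} (hz : z ^ p = 1) {K : Finset α}
    (hK : ∀ x, x ∈ K ↔ z x = x) (χ : IrrCharacter (alternatingGroup {x // x ∈ K}))
    (hχ : (Nat.card (alternatingGroup {x // x ∈ K})).factorization p ≤
      (charDegree (χ : alternatingGroup {x // x ∈ K} → ℂ)).factorization p)
    (hd : p ∣ Nat.card (alternatingGroup {x // x ∈ K})) : IMC p (alternatingGroup α) := by
  classical
  have hodd : Odd p := hp.out.odd_of_ne_two hp2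
  have hET : E z ≤ Fx K := fun g hg x hx => E_fix hg ((hK x).1 hx)
  obtain ⟨P, hP⟩ := IsPGroup.exists_le_sylow (p := p) (P := (E z).subgroupOf (Fx K)) (by
    rintro ⟨g, hg⟩
    refine ⟨1, Subtype.ext (Subtype.ext ?_)⟩
    rw [pow_one]
    exact E_pow hz hg)
  set D : Subgroup (alternatingGroup α) := (P : Subgroup (Fx K)).map (Fx K).subtype with hDdef
  have hDp : IsPGroup p D := P.2.map _
  have hDT : D ≤ Fx K := Subgroup.map_subtype_le _
  have hED : E z ≤ D := fun g hg => ⟨⟨g, hET hg⟩, hP hg, rfl⟩
  have hmax : ∀ g : alternatingGroup α, g ∈ Fx K → (∃ k : ℕ, g ^ p ^ k = 1) →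
      g ∈ Subgroup.normalizer (D : Set (alternatingGroup α)) → g ∈ D := fun g h1 h2 h3 => mem_map_sylow _ P h1 h2 h3
  have hfix : ∀ x, x ∈ K ↔ ∀ d ∈ D, (d : Perm α) x = x := by
    intro x
    constructor
    · intro hx d hd
      exact hDT hd x hx
    · intro h
      exact (hK x).2 (h _ (hED (mem_E_self hodd hz)))
  have hCN : Subgroup.centralizer (D : Set (alternatingGroup α)) ≤ Subgroup.normalizer (D : Set (alternatingGroup α)) :=
    Subgroup.centralizer_le_normalizer _
  -- elements of the centralizer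
  have hinv : ∀ c ∈ Subgroup.centralizer (D : Set (alternatingGroup α)), ∀ x, (c : Perm α) x ∈ K ↔ x ∈ K :=
    fun c hc x => inv_of_normalizer hfix (hCN hc) x
  have hcomm : ∀ c ∈ Subgroup.centralizer (D : Set (alternatingGroup α)), ∀ d ∈ D, Commute (c : Perm α) (d : Perm α) := by
    intro c hc d hd
    have h1 := (Subgroup.mem_centralizer_iff.1 hc d hd)
    exact (congrArg Subtype.val h1).symm
  have hrest : ∀ (c : alternatingGroup α) (hc : c ∈ Subgroup.centralizer (D : Set (alternatingGroup α))),
      ((c : Perm α) * (cut K c (hinv c hc))⁻¹) ^ p = 1 := by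
    intro c hc
    ext x
    rw [Perm.one_apply]
    by_cases hx : x ∈ K
    · exact Perm.pow_apply_eq_self_of_apply_eq_self (mul_inv_cut (hinv c hc) hx) p
    · refine pow_apply_of_centralizes hodd hz ?_ (fun h => hx ((hK x).2 h))
      intro g hg
      exact (hcomm c hc g (hED hg)).mul_left
        (commute_of_Fx (hET hg) (fun x hx => cut_notMem (hinv c hc) hx)).inv_left
  have hsign : ∀ (c : alternatingGroup α) (hc : c ∈ Subgroup.centralizer (D : Set (alternatingGroup α))),
      Perm.sign (cut K (c : Perm α) (hinv c hc)) = 1 := by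
    intro c hc
    have h1 := sign_of_odd hodd (hrest c hc)
    rw [map_mul, Perm.mem_alternatingGroup.1 c.2, one_mul, map_inv, inv_eq_one] at h1
    exact h1
  -- the restriction to `K`
  let r : Subgroup.centralizer (D : Set (alternatingGroup α)) →* alternatingGroup {x // x ∈ K} :=
    { toFun := fun c => ⟨((c : alternatingGroup α) : Perm α).subtypePerm (hinv c.1 c.2), by
        rw [Perm.mem_alternatingGroup, ← Perm.sign_ofSubtype]
        exact hsign c.1 c.2⟩
      map_one' := by
        refine Subtype.ext (Equiv.ext fun x => Subtype.ext ?_)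
        rfl
      map_mul' := by
        intro a b
        refine Subtype.ext (Equiv.ext fun x => Subtype.ext ?_)
        rfl }
  have hr : ∀ (c : Subgroup.centralizer (D : Set (alternatingGroup α))) (x : {x // x ∈ K}),
      (((r c : alternatingGroup {x // x ∈ K}) : Perm {x // x ∈ K}) x : α) = ((c : alternatingGroup α) : Perm α) x :=
    fun c x => rfl
  have hsurj : Function.Surjective r := by
    intro a
    have h1 : Perm.ofSubtype (a : Perm {x // x ∈ K}) ∈ alternatingGroup α := by
      rw [Perm.mem_alternatingGroup, Perm.sign_ofSubtype]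
      exact Perm.mem_alternatingGroup.1 a.2
    refine ⟨⟨⟨_, h1⟩, ?_⟩, ?_⟩
    · rw [Subgroup.mem_centralizer_iff]
      intro d hd
      refine Subtype.ext ?_
      exact (commute_of_Fx (hDT hd) (fun x hx => Perm.ofSubtype_apply_of_not_mem _ hx)).symm
    · refine Subtype.ext (Equiv.ext fun x => Subtype.ext ?_)
      rw [hr]
      change Perm.ofSubtype (a : Perm {x // x ∈ K}) (x : α) = _
      rw [Perm.ofSubtype_apply_coe]
  have hker : (r.ker).map (Subgroup.centralizer (D : Set (alternatingGroup α))).subtype ≤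
      D ⊓ Subgroup.centralizer (D : Set (alternatingGroup α)) := by
    rintro _ ⟨c, hc, rfl⟩
    refine ⟨?_, c.2⟩
    have h1 : r c = 1 := hc
    have h2 : ∀ x ∈ K, ((c : alternatingGroup α) : Perm α) x = x := by
      intro x hx
      have h3 := hr c ⟨x, hx⟩
      rw [h1] at h3
      exact h3.symm
    refine hmax c.1 h2 ⟨1, ?_⟩ (hCN c.2)
    rw [pow_one]
    refine Subtype.ext ?_
    have h4 : cut K ((c : alternatingGroup α) : Perm α) (hinv c.1 c.2) = 1 := by
      ext x
      rw [Perm.one_apply]
      by_cases hx : x ∈ K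
      · rw [cut_mem _ hx, h2 x hx]
      · rw [cut_notMem _ hx]
    have h5 := hrest c.1 c.2
    rw [h4, inv_one, mul_one] at h5
    exact h5
  -- the degree
  have hcardC : Nat.card (Subgroup.centralizer (D : Set (alternatingGroup α))) =
      Nat.card r.ker * Nat.card (alternatingGroup {x // x ∈ K}) := by
    rw [← Subgroup.card_mul_index r.ker, Subgroup.index_ker, MonoidHom.range_eq_top.2 hsurj, Subgroup.card_top]
  have hkd : Nat.card r.ker ∣ Nat.card ↥(D ⊓ Subgroup.centralizer (D : Set (alternatingGroup α))) := by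
    rw [← Subgroup.card_map_of_injective (K := r.ker)
      (Subgroup.subtype_injective (Subgroup.centralizer (D : Set (alternatingGroup α))))]
    exact Subgroup.card_dvd_of_le hker
  refine H661.SC.imc_of_local D hDp ?_
    ⟨fun c => (χ : alternatingGroup {x // x ∈ K} → ℂ) (r c), Blocks.CliffordCentral.isIrrCharacter_comp χ.2 r hsurj⟩
    ?_ ?_
  · -- the index
    by_contra hidx
    have : Finite (alternatingGroup {x // x ∈ K}) := inferInstance
    obtain ⟨a, ha⟩ := exists_prime_orderOf_dvd_card' p hd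
    have h1 : Perm.ofSubtype (a : Perm {x // x ∈ K}) ∈ alternatingGroup α := by
      rw [Perm.mem_alternatingGroup, Perm.sign_ofSubtype]
      exact Perm.mem_alternatingGroup.1 a.2
    have h2 : (⟨_, h1⟩ : alternatingGroup α) ∈ D := by
      have h3 := mem_sylow (hDp.toSylow hidx) (g := (⟨_, h1⟩ : alternatingGroup α)) ⟨1, ?_⟩ ?_
      · rwa [IsPGroup.toSylow_coe] at h3
      · rw [pow_one]
        refine Subtype.ext ?_
        rw [Subgroup.coe_pow]
        change Perm.ofSubtype (a : Perm {x // x ∈ K}) ^ p = 1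
        rw [← map_pow]
        have h4 : (a : Perm {x // x ∈ K}) ^ p = 1 := by
          rw [← Subgroup.coe_pow, ← ha, pow_orderOf_eq_one]
          rfl
        rw [h4, map_one]
      · rw [IsPGroup.toSylow_coe]
        apply hCN
        rw [Subgroup.mem_centralizer_iff]
        intro d hd
        refine Subtype.ext ?_
        exact (commute_of_Fx (hDT hd) (fun x hx => Perm.ofSubtype_apply_of_not_mem _ hx)).symm
    have h5 : a = 1 := by
      refine Subtype.ext (Equiv.ext fun x => Subtype.ext ?_)
      have h6 := hDT h2 x x.2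
      change Perm.ofSubtype (a : Perm {x // x ∈ K}) (x : α) = x at h6
      rw [Perm.ofSubtype_apply_coe] at h6
      exact h6
    rw [h5, orderOf_one] at ha
    exact hp.out.one_lt.ne ha
  · -- the degree
    have h1 : charDegree (fun c : Subgroup.centralizer (D : Set (alternatingGroup α)) =>
        (χ : alternatingGroup {x // x ∈ K} → ℂ) (r c)) = charDegree (χ : alternatingGroup {x // x ∈ K} → ℂ) := by
      apply H670.PSing.charDegree_eq_of
      rw [map_one]
      exact Blocks.Basic.irr_one_eq_charDegree χ.2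
    change _ ≤ (charDegree (fun c : Subgroup.centralizer (D : Set (alternatingGroup α)) =>
        (χ : alternatingGroup {x // x ∈ K} → ℂ) (r c))).factorization p + _
    rw [h1, hcardC, Nat.factorization_mul Nat.card_pos.ne' Nat.card_pos.ne', Finsupp.add_apply]
    have h2 := (Nat.factorization_le_iff_dvd Nat.card_pos.ne' Nat.card_pos.ne').2 hkd p
    omega
  · -- the p-elements of the normalizer
    rintro g hg ⟨k, hk⟩
    have hgi := inv_of_normalizer hfix hg
    have hgk : (g : Perm α) ^ p ^ k = 1 := by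
      rw [← Subgroup.coe_pow, ← hk, pow_orderOf_eq_one]
      rfl
    have hc1 : Perm.sign (cut K (g : Perm α) hgi) = 1 := sign_of_odd hodd.pow (cut_pow hgi hgk)
    set c : alternatingGroup α := ⟨cut K (g : Perm α) hgi, Perm.mem_alternatingGroup.2 hc1⟩ with hcdef
    have hcC : c ∈ Subgroup.centralizer (D : Set (alternatingGroup α)) := by
      rw [Subgroup.mem_centralizer_iff]
      intro d hd
      refine Subtype.ext ?_
      exact (commute_of_Fx (hDT hd) (fun x hx => cut_notMem hgi hx)).symm
    have hcomm' : Commute g c := Subtype.ext (commute_cut hgi).eq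
    have hg1 : g * c⁻¹ ∈ D := by
      apply hmax
      · intro x hx
        exact mul_inv_cut hgi hx
      · refine ⟨k, ?_⟩
        rw [(hcomm'.inv_right).mul_pow]
        have e1 : g ^ p ^ k = 1 := Subtype.ext hgk
        have e2 : c ^ p ^ k = 1 := Subtype.ext (cut_pow hgi hgk)
        rw [e1, inv_pow, e2, inv_one, mul_one]
      · exact mul_mem hg (inv_mem (hCN hcC))
    have e : g = g * c⁻¹ * c := by rw [inv_mul_cancel_right]
    rw [e]
    exact mul_mem ((le_sup_left : D ≤ _) hg1) ((le_sup_right : Subgroup.centralizer (D : Set (alternatingGroup α)) ≤ _) hcC)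

/-- a permutation with `w` cycles of length `m` -/
theorem exists_perm {n m w : ℕ} (hm : 2 ≤ m) (h : w * m ≤ n) : ∃ z : Perm (Fin n), z ^ m = 1 ∧
    (z.supportᶜ).card = n - w * m := by
  obtain ⟨z, hz⟩ := (Equiv.Perm.exists_with_cycleType_iff (Fin n) (m := Multiset.replicate w m)).2 (by
    rw [Fintype.card_fin, Multiset.sum_replicate, smul_eq_mul]
    exact ⟨h, fun a ha => by rw [Multiset.eq_of_mem_replicate ha]; exact hm⟩)
  refine ⟨z, ?_, ?_⟩
  · rw [← orderOf_dvd_iff_pow_eq_one, ← Perm.lcm_cycleType, Multiset.lcm_dvd, hz]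
    intro b hb
    rw [Multiset.eq_of_mem_replicate hb]
  · rw [Finset.card_compl, Fintype.card_fin, ← Perm.sum_cycleType, hz, Multiset.sum_replicate, smul_eq_mul]

theorem factorization_alt_le {p k : ℕ} (hp : p.Prime) (hk : k < 2 * p) (h2 : 2 < p) {N : ℕ} (hN : 2 * N = k.factorial) :
    N.factorization p ≤ 1 := by
  have hN0 : N ≠ 0 := by
    rintro rfl
    have := Nat.factorial_pos k
    omega
  by_contra hcon
  have h3 : p ^ 2 ∣ N := (hp.pow_dvd_iff_le_factorization hN0).2 (by omega)
  have h4 : p ^ 2 ∣ k.factorial := by rw [← hN]; exact Dvd.dvd.mul_left h3 2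
  rcases Nat.eq_zero_or_pos k with rfl | hk0
  · rw [Nat.factorial_zero, Nat.dvd_one] at h4
    nlinarith
  have h5 : Nat.log p k < 2 := by
    apply Nat.log_lt_of_lt_pow (by omega)
    nlinarith
  rw [Nat.Prime.pow_dvd_factorial_iff hp h5] at h4
  have h7 : Finset.Ico 1 2 = {1} := rfl
  have h6 : k / p < 2 := by
    rw [Nat.div_lt_iff_lt_mul hp.pos]
    exact hk
  rw [h7, Finset.sum_singleton, pow_one] at h4
  omega

/-- **`p ≥ 5`** -/
theorem imc_large {n p : ℕ} [hp : Fact p.Prime] (h5 : 5 ≤ p) (hn : p ≤ n) : IMC p (alternatingGroup (Fin n)) := by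
  classical
  have hp0 := hp.out.pos
  have hdm := Nat.div_add_mod n p
  have hml := Nat.mod_lt n hp0
  have hw : 1 ≤ n / p := (Nat.one_le_div_iff hp0).2 hn
  obtain ⟨v, hv⟩ := Nat.exists_eq_add_of_le hw
  have hvp : n = v * p + (n % p + p) := by
    rw [hv] at hdm
    rw [← hdm]
    have e : (p * (1 + v) + n % p) % p = n % p := by
      rw [Nat.mul_add_mod, Nat.mod_mod]
    rw [e]
    ring
  obtain ⟨z, hz, hK⟩ := exists_perm (n := n) (m := p) (w := v) (by omega) (by omega)
  set K := z.supportᶜ with hKdef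
  have hKx : ∀ x, x ∈ K ↔ z x = x := by
    intro x
    rw [hKdef, Finset.mem_compl, Perm.mem_support, not_not]
  have hk : K.card = n % p + p := by omega
  have hcardK : Fintype.card {x // x ∈ K} = n % p + p := by rw [Fintype.card_coe, hk]
  have e : {x // x ∈ K} ≃ Fin (n % p + p) := Fintype.equivFinOfCardEq hcardK
  have hnt : Nontrivial {x // x ∈ K} := by
    rw [← Fintype.one_lt_card_iff_nontrivial, hcardK]
    omega
  have hfac : 2 * Nat.card (alternatingGroup {x // x ∈ K}) = (n % p + p).factorial := by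
    rw [Nat.card_eq_fintype_card, two_mul_card_alternatingGroup, Fintype.card_perm, hcardK]
  have hd : p ∣ Nat.card (alternatingGroup {x // x ∈ K}) := by
    have h1 : p ∣ (n % p + p).factorial := (hp.out.dvd_factorial).2 (by omega)
    rw [← hfac] at h1
    rcases (hp.out.dvd_mul).1 h1 with h | h
    · exfalso
      have := Nat.le_of_dvd (by norm_num) h
      omega
    · exact h
  have hd' : p ∣ Nat.card (alternatingGroup (Fin (n % p + p))) := by
    rwa [← Nat.card_congr (Equiv.altCongrHom e).toEquiv]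
  obtain ⟨χ, hχ⟩ := (H600.AltDeg.im_alt (by omega) hd').of_equiv (Equiv.altCongrHom e)
  refine imc_of_zero (by omega) hz hKx χ ?_ hd
  exact (factorization_alt_le hp.out (by omega) (by omega) hfac).trans
    ((hp.out.dvd_iff_one_le_factorization (Blocks.Basic.charDegree_pos χ.2).ne').1 hχ)

end Cfsg.Agent.H486.SCAlt
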