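import Cfsg.Agent.H486.SC.AltLocal
import Cfsg.Agent.H661.SC.NonPrin
import Cfsg.Agent.H133.OB.Alt
import Cfsg.Agent.H215.NBAlt
import Cfsg.Agent.H686.Four.Alt

/-!
# S4526: the row of the alternating groups

`noCent_three`, `noCent_two` : no nontrivial `p'`-element of `A_n` centralizes a Sylow `p`-subgroup, `p = 3` and
`p = 2`, `n ≥ 6`. `imc_alt` : the row.
-/

set_option autoImplicit false
set_option linter.unusedSectionVars false

namespace Cfsg.Agent.H486.SCAlt

open Equiv Cfsg Cfsg.Agent.H625.SylConst Cfsg.Agent.Characters.Core Cfsg.Agent.H661.SC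

universe u

/-- an element whose centralizer has the full `p`-part centralizes, up to conjugation, a given Sylow subgroup -/
theorem exists_conj_centralizes {G : Type u} [Group G] [Finite G] {p : ℕ} [hp : Fact p.Prime] (P : Sylow p G) {g : G}
    (h : (Nat.card G).factorization p ≤ (Nat.card (Subgroup.centralizer ({g} : Set G))).factorization p) :
    ∃ x : G, ∀ y ∈ (P : Subgroup G), Commute (x * g * x⁻¹) y := by
  obtain ⟨Q⟩ : Nonempty (Sylow p (Subgroup.centralizer ({g} : Set G))) := inferInstance
  have h1 : (Nat.card (Subgroup.centralizer ({g} : Set G))).factorization p = (Nat.card G).factorization p :=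
    le_antisymm ((Nat.factorization_le_iff_dvd Nat.card_pos.ne' Nat.card_pos.ne').2
      (Subgroup.card_subgroup_dvd_card _) p) h
  have h2 : Nat.card ((Q : Subgroup (Subgroup.centralizer ({g} : Set G))).map
      (Subgroup.centralizer ({g} : Set G)).subtype) = p ^ (Nat.card G).factorization p := by
    rw [Subgroup.card_map_of_injective (Subgroup.subtype_injective _), Q.card_eq_multiplicity, h1]
  obtain ⟨x, hx⟩ := MulAction.exists_smul_eq G (Sylow.ofCard _ h2) P
  refine ⟨x, fun y hy => ?_⟩
  rw [← hx] at hy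
  have h3 : x⁻¹ * y * x ∈ ((Sylow.ofCard _ h2 : Sylow p G) : Subgroup G) := by
    rw [Sylow.coe_subgroup_smul, Subgroup.mem_pointwise_smul_iff_inv_smul_mem] at hy
    simpa [MulAut.smul_def, MulAut.inv_def] using hy
  rw [Sylow.coe_ofCard] at h3
  obtain ⟨q, -, hq⟩ := h3
  have h4 : Commute g (x⁻¹ * y * x) := by
    rw [← hq]
    exact (Subgroup.mem_centralizer_singleton_iff.1 q.2).symm
  have h5 : y = x * (x⁻¹ * y * x) * x⁻¹ := by group
  rw [h5]
  change (x * g * x⁻¹) * (x * (x⁻¹ * y * x) * x⁻¹) = (x * (x⁻¹ * y * x) * x⁻¹) * (x * g * x⁻¹)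
  have h6 := h4.eq
  calc (x * g * x⁻¹) * (x * (x⁻¹ * y * x) * x⁻¹) = x * (g * (x⁻¹ * y * x)) * x⁻¹ := by group
    _ = x * ((x⁻¹ * y * x) * g) * x⁻¹ := by rw [h6]
    _ = _ := by group

theorem even_one {α : Type u} [Fintype α] [DecidableEq α] {g : Perm α} (hg : Perm.sign g = 1) (h : g.support.card ≤ 2) :
    g = 1 := by
  rcases Nat.lt_or_eq_of_le h with h1 | h1
  · exact Perm.card_support_le_one.1 (by omega)
  · exfalso
    have h2 := (Perm.card_support_eq_two.1 h1).sign_eq
    rw [hg] at h2
    exact absurd h2 (by decide)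

theorem eq_one_of_pow {G : Type u} [Group G] {p : ℕ} (hp : p.Prime) {g : G} (hg : ¬ p ∣ orderOf g) (h : g ^ p = 1) :
    g = 1 := by
  rcases (Nat.dvd_prime hp).1 (orderOf_dvd_of_pow_eq_one h) with h1 | h1
  · exact orderOf_eq_one_iff.1 h1
  · exact absurd (h1 ▸ dvd_refl _) hg

/-- to prove that `g = 1` replace `g` by a conjugate centralizing `E z` -/
theorem noCent_of {n p : ℕ} [hp : Fact p.Prime] {z : Perm (Fin n)} (hz : z ^ p = 1)
    (h : ∀ c : alternatingGroup (Fin n), (∀ g ∈ E z, Commute (c : Perm (Fin n)) (g : Perm (Fin n))) →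
      ¬ p ∣ orderOf c → c = 1) : NoCent p (alternatingGroup (Fin n)) := by
  intro g hg hle
  obtain ⟨P, hP⟩ := (isPGroup_E hz).exists_le_sylow
  obtain ⟨x, hx⟩ := exists_conj_centralizes P hle
  have h1 := h (x * g * x⁻¹) (fun y hy => by
    have h2 := (hx y (hP hy)).eq
    exact congrArg Subtype.val h2) (by
      have h3 : orderOf (x * g * x⁻¹) = orderOf g := by
        have h4 := orderOf_injective (MulAut.conj x).toMonoidHom (MulAut.conj x).injective g
        exact h4
      rwa [h3])
  have h2 : g = x⁻¹ * (x * g * x⁻¹) * x := by group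
  rw [h2, h1]
  group

theorem noCent_three {n : ℕ} : NoCent 3 (alternatingGroup (Fin n)) := by
  have : Fact (Nat.Prime 3) := ⟨Nat.prime_three⟩
  obtain ⟨z, hz, hK⟩ := exists_perm (n := n) (m := 3) (w := n / 3) (by norm_num) (Nat.div_mul_le_self n 3)
  refine noCent_of hz fun c hc hord => eq_one_of_pow Nat.prime_three hord ?_
  refine Subtype.ext ?_
  rw [Subgroup.coe_pow]
  apply even_one
  · rw [map_pow, Perm.mem_alternatingGroup.1 c.2, one_pow]
  · have h1 : ((c : Perm (Fin n)) ^ 3).support ⊆ z.supportᶜ := by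
      intro x hx
      rw [Finset.mem_compl, Perm.mem_support, not_not]
      by_contra h2
      exact (Perm.mem_support.1 hx) (pow_apply_of_centralizes (by decide) hz hc h2)
    have h2 := Finset.card_le_card h1
    have h3 := Nat.div_add_mod n 3
    have h4 := Nat.mod_lt n (by norm_num : 0 < 3)
    omega

/-! ### `p = 2` -/

section Two

variable {α : Type u} [Fintype α] [DecidableEq α]

theorem swap_swap_mem {z : Perm α} (hz : z ^ 2 = 1) {x y : α} (hx : z x ≠ x) (hy : z y ≠ y) :
    ∃ h : swap x (z x) * swap y (z y) ∈ alternatingGroup α, (⟨_, h⟩ : alternatingGroup α) ∈ E z := by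
  have hzz : ∀ w, z (z w) = w := by
    intro w
    have h1 := congrArg (fun f : Perm α => f w) hz
    simpa only [pow_two, Perm.mul_apply, Perm.one_apply] using h1
  have hs : ∀ w, z w ≠ w → Commute (swap w (z w)) z := by
    intro w _
    change swap w (z w) * z = z * swap w (z w)
    rw [Equiv.mul_swap_eq_swap_mul, hzz, swap_comm]
  have hc : ∀ w v, z.SameCycle v (swap w (z w) v) := by
    intro w v
    rcases eq_or_ne v w with rfl | h1
    · rw [swap_apply_left]
      exact ⟨1, by simp⟩
    · rcases eq_or_ne v (z w) with rfl | h2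
      · rw [swap_apply_right]
        exact ⟨1, by rw [zpow_one, hzz]⟩
      · rw [swap_apply_of_ne_of_ne h1 h2]
  refine ⟨?_, ?_⟩
  · rw [Perm.mem_alternatingGroup, map_mul, Perm.sign_swap hx.symm, Perm.sign_swap hy.symm]
    decide
  · refine ⟨(hs x hx).mul_left (hs y hy), fun v => ?_⟩
    change z.SameCycle v (swap x (z x) (swap y (z y) v))
    exact (hc y v).trans (hc x _)

/-- a permutation centralizing `E z` preserves the transpositions of `z` if there are at least three of them -/
theorem apply_of_centralizes_two {z : Perm α} (hz : z ^ 2 = 1) (h5 : 4 < z.support.card) {c : Perm α}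
    (hc : ∀ g ∈ E z, Commute c (g : Perm α)) {x : α} (hx : z x ≠ x) : c x = x ∨ c x = z x := by
  by_contra hcon
  push Not at hcon
  have hzz : ∀ w, z (z w) = w := by
    intro w
    have h1 := congrArg (fun f : Perm α => f w) hz
    simpa only [pow_two, Perm.mul_apply, Perm.one_apply] using h1
  -- a transposition away from `x` and `c x`
  obtain ⟨y, hy, hy'⟩ : ∃ y ∈ z.support, y ∉ ({x, z x, c x, z (c x)} : Finset α) := by
    by_contra h1
    push Not at h1
    have h2 := Finset.card_le_card (fun y hy => h1 y hy : z.support ⊆ ({x, z x, c x, z (c x)} : Finset α))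
    have h3 : ({x, z x, c x, z (c x)} : Finset α).card ≤ 4 := Finset.card_le_four
    omega
  rw [Perm.mem_support] at hy
  simp only [Finset.mem_insert, Finset.mem_singleton, not_or] at hy'
  obtain ⟨h6, h7⟩ := swap_swap_mem hz hx hy
  have h8 := congrArg (fun f : Perm α => f x) (hc _ h7).eq
  simp only [Perm.mul_apply] at h8
  have h9 : z y ≠ x := fun h => hy'.2.1 (by rw [← h, hzz])
  have h10 : z y ≠ c x := fun h => hy'.2.2.2 (by rw [← h, hzz])
  rw [swap_apply_of_ne_of_ne (Ne.symm hy'.1) h9.symm, swap_apply_left,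
    swap_apply_of_ne_of_ne (Ne.symm hy'.2.2.1) h10.symm, swap_apply_of_ne_of_ne hcon.1 hcon.2] at h8
  exact hx (c.injective h8)

end Two

theorem noCent_two {n : ℕ} (hn : 6 ≤ n) : NoCent 2 (alternatingGroup (Fin n)) := by
  have : Fact (Nat.Prime 2) := ⟨Nat.prime_two⟩
  obtain ⟨z, hz, hK⟩ := exists_perm (n := n) (m := 2) (w := n / 2) (by norm_num) (Nat.div_mul_le_self n 2)
  have h3 := Nat.div_add_mod n 2
  have h4 := Nat.mod_lt n (by norm_num : 0 < 2)
  have hzz : ∀ w, z (z w) = w := by
    intro w
    have h1 := congrArg (fun f : Perm (Fin n) => f w) hz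
    simpa only [pow_two, Perm.mul_apply, Perm.one_apply] using h1
  have hs : 4 < z.support.card := by
    rw [Finset.card_compl, Fintype.card_fin] at hK
    have h5 : z.support.card ≤ n := by
      have := Finset.card_le_univ z.support
      rwa [Fintype.card_fin] at this
    omega
  refine noCent_of hz fun c hc hord => eq_one_of_pow Nat.prime_two hord ?_
  refine Subtype.ext ?_
  rw [Subgroup.coe_pow]
  apply even_one
  · rw [map_pow, Perm.mem_alternatingGroup.1 c.2, one_pow]
  · have h1 : ((c : Perm (Fin n)) ^ 2).support ⊆ z.supportᶜ := by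
      intro x hx
      rw [Finset.mem_compl, Perm.mem_support, not_not]
      by_contra h2
      apply Perm.mem_support.1 hx
      rw [pow_two, Perm.mul_apply]
      rcases apply_of_centralizes_two hz hs hc h2 with h5 | h5
      · rw [h5, h5]
      · have h6 : z (z x) ≠ z x := by
          intro h7
          exact h2 (z.injective h7)
        rw [h5]
        rcases apply_of_centralizes_two hz hs hc h6 with h7 | h7
        · exfalso
          have h8 : (c : Perm (Fin n)) (z x) = (c : Perm (Fin n)) x := by rw [h7, h5]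
          exact h2 ((c : Perm (Fin n)).injective h8)
        · rw [h7, hzz]
    have h2 := Finset.card_le_card h1
    omega

theorem card_alt_five : Nat.card (alternatingGroup (Fin 5)) = 60 := by
  have h1 : 2 * Nat.card (alternatingGroup (Fin 5)) = 120 := by
    rw [Nat.card_eq_fintype_card, two_mul_card_alternatingGroup, Fintype.card_perm, Fintype.card_fin]
    rfl
  omega

theorem imc_two_five : IMC 2 (alternatingGroup (Fin 5)) := by
  have : Fact (Nat.Prime 2) := ⟨Nat.prime_two⟩
  obtain ⟨χ, hχ⟩ := H686.Four.im4_five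
  refine IMC.of_defect_zero (by rw [card_alt_five]; norm_num) χ ?_
  have h1 : (Nat.card (alternatingGroup (Fin 5))).factorization 2 = 2 := by
    rw [card_alt_five]
    have e : (60 : ℕ) = 2 ^ 2 * 15 := by norm_num
    rw [e, Nat.factorization_mul (by norm_num) (by norm_num), Finsupp.add_apply, Nat.Prime.factorization_pow Nat.prime_two,
      Finsupp.single_eq_same, Nat.factorization_eq_zero_of_not_dvd (by norm_num)]
  rw [h1]
  exact hχ

theorem imc_alt_fin {n : ℕ} (hn : 5 ≤ n) {p : ℕ} [hp : Fact p.Prime] (hd : p ∣ Nat.card (alternatingGroup (Fin n))) :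
    IMC p (alternatingGroup (Fin n)) := by
  rcases Nat.lt_or_ge p 5 with h5 | h5
  · have h2 := hp.out.two_le
    rcases (by omega : p = 2 ∨ p = 3 ∨ p = 4) with rfl | rfl | rfl
    · rcases Nat.lt_or_ge n 6 with h6 | h6
      · obtain rfl : n = 5 := by omega
        exact imc_two_five
      · exact imc_of_NB2 (H215.NBAlt.nb_alt hn) (noCent_two h6)
    · exact imc_of_NB (H133.OB.nb_alt hp.out (by norm_num) n hn) noCent_three
    · exact absurd hp.out (by norm_num)
  · refine imc_large h5 ?_
    have hnt : Nontrivial (Fin n) := Fin.nontrivial_iff_two_le.2 (by omega)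
    have hcard : 2 * Nat.card (alternatingGroup (Fin n)) = n.factorial := by
      rw [Nat.card_eq_fintype_card, two_mul_card_alternatingGroup, Fintype.card_perm, Fintype.card_fin]
    exact (hp.out.dvd_factorial).1 (by rw [← hcard]; exact Dvd.dvd.mul_left hd 2)

/-- **Row A of S4526.** -/
theorem imc_alt {S : Type u} [Group S] [Finite S] (h : IsAlternating S) {p : ℕ} [hp : Fact p.Prime]
    (hd : p ∣ Nat.card S) : IMC p S := by
  obtain ⟨n, hn, ⟨e⟩⟩ := h
  rw [Nat.card_congr e.toEquiv] at hd
  exact (imc_alt_fin hn hd).of_equiv e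

end Cfsg.Agent.H486.SCAlt
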